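import Groth.Agent.Assoc.Bundle
import Groth.Agent.SpecialExt.Basic
import Groth.Agent.GrpAct.TorsorMap
import Groth.Agent.KrullSch.StableBir
import Mathlib.AlgebraicGeometry.AffineSpace
import Mathlib.AlgebraicGeometry.Birational.Birational
import Mathlib.RingTheory.AlgebraicIndependent.TranscendenceBasis
import Groth.Prelude.Def_AGF

/-!
# Quotients of rational special groups are stably birational
-/

set_option autoImplicit false
set_option linter.style.haveILetI false
set_option backward.isDefEq.respectTransparency false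
set_option backward.isDefEq.respectTransparency.types false
set_option maxHeartbeats 1000000

universe u

open CategoryTheory CategoryTheory.Limits MonoidalCategory CartesianMonoidalCategory GrpObj AlgebraicGeometry
open scoped CategoryTheory.MonObj

noncomputable section

namespace Groth.Agent.StableBirat

variable {k : Type u} [Field k]

/-- The range of a base change. -/
theorem range_of_isPullback {P A B C : Scheme.{u}} {p : P ⟶ A} {q : P ⟶ B} {f : A ⟶ C} {g : B ⟶ C}
    (h : IsPullback p q f g) : Set.range p = f ⁻¹' Set.range g := by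
  rw [← h.isoPullback_hom_fst, Scheme.Hom.comp_base, TopCat.coe_comp, Set.range_comp,
    h.isoPullback.hom.surjective.range_eq, Set.image_univ, Scheme.Pullback.range_fst]

/-- Whiskering an open immersion with dense range. -/
theorem whisker_dense {Z X X' : Over (Spec (CommRingCat.of k))} [LocallyOfFiniteType Z.hom] (i : X' ⟶ X)
    [IsOpenImmersion i.left] [IsDominant i.left] :
    IsOpenImmersion (Z ◁ i).left ∧ IsDominant (Z ◁ i).left := by
  have sq := (Assoc.isPullback_whiskerLeft (Z := Z) i).flip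
  haveI : IsOpenImmersion (Z ◁ i).left :=
    MorphismProperty.of_isPullback sq.flip (inferInstance : IsOpenImmersion i.left)
  refine ⟨inferInstance, ⟨?_⟩⟩
  haveI : UniversallyOpen (snd Z X).left :=
    MorphismProperty.pullback_snd (P := @UniversallyOpen) Z.hom X.hom inferInstance
  have h : Set.range (Z ◁ i).left = (snd Z X).left ⁻¹' Set.range i.left := by
    rw [← sq.isoPullback_hom_fst, Scheme.Hom.comp_base, TopCat.coe_comp, Set.range_comp,
      sq.isoPullback.hom.surjective.range_eq, Set.image_univ, Scheme.Pullback.range_fst]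
  show Dense (Set.range (Z ◁ i).left)
  rw [h]
  exact i.left.denseRange.preimage (snd Z X).left.isOpenMap

/-- Products preserve birationality. -/
theorem birationalOver_prod {Z X Y : Over (Spec (CommRingCat.of k))} [LocallyOfFiniteType Z.hom]
    (h : Scheme.BirationalOver X.hom Y.hom) : Scheme.BirationalOver (Z ⊗ X).hom (Z ⊗ Y).hom := by
  obtain ⟨f, hf⟩ := h
  let P : Over (Spec (CommRingCat.of k)) := Over.mk (f.source.ι ≫ X.hom)
  let i : P ⟶ X := Over.homMk f.source.ι rfl
  let j : P ⟶ Y := Over.homMk (f.iso.hom ≫ f.target.ι) (by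
    show (f.iso.hom ≫ f.target.ι) ≫ Y.hom = f.source.ι ≫ X.hom
    rw [Category.assoc]; exact hf)
  haveI : IsOpenImmersion i.left := inferInstanceAs (IsOpenImmersion f.source.ι)
  haveI : IsDominant i.left := AlgebraicGeometry.Opens.isDominant_ι f.dense_source
  haveI : IsOpenImmersion j.left := inferInstanceAs (IsOpenImmersion (f.iso.hom ≫ f.target.ι))
  haveI : IsDominant j.left := by
    haveI := AlgebraicGeometry.Opens.isDominant_ι f.dense_target
    exact inferInstanceAs (IsDominant (f.iso.hom ≫ f.target.ι))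
  obtain ⟨h1, h2⟩ := whisker_dense (Z := Z) i
  obtain ⟨h3, h4⟩ := whisker_dense (Z := Z) j
  exact ((Z ◁ i).left.birationalOver (Z ⊗ X).hom (Z ⊗ P).hom (Over.w (Z ◁ i))).symm.trans
    ((Z ◁ j).left.birationalOver (Z ⊗ Y).hom (Z ⊗ P).hom (Over.w (Z ◁ j)))

/-- A rational scheme of finite type is birational to a finite-dimensional affine space and irreducible. -/
theorem rational_props {X : Over (Spec (CommRingCat.of k))} [LocallyOfFiniteType X.hom] [Nonempty X.left]
    [Scheme.IsRationalOver X.hom] :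
    PreirreducibleSpace X.left ∧ ∃ r : ℕ, Scheme.BirationalOver X.hom
      (Spec.map (CommRingCat.ofHom (algebraMap k (MvPolynomial (Fin r) k)))) := by
  classical
  obtain ⟨n, hn⟩ := Scheme.IsRationalOver.exists_birationalOver_affineSpace X.hom
  let e := AffineSpace.SpecIso n (CommRingCat.of k)
  let sp : Spec (CommRingCat.of (MvPolynomial n k)) ⟶ Spec (CommRingCat.of k) :=
    Spec.map (CommRingCat.ofHom (algebraMap k (MvPolynomial n k)))
  have he : e.hom ≫ sp = 𝔸(n; Spec (CommRingCat.of k)) ↘ Spec (CommRingCat.of k) := by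
    rw [← Iso.eq_inv_comp]
    exact (AffineSpace.SpecIso_inv_over (n := n) (CommRingCat.of k)).symm
  have h1 : Scheme.BirationalOver X.hom sp :=
    hn.trans (KrullSch.Stab.birationalOver_of_iso e he)
  obtain ⟨f, hf⟩ := h1
  haveI : IrreducibleSpace (Spec (CommRingCat.of (MvPolynomial n k))) :=
    inferInstanceAs (IrreducibleSpace (PrimeSpectrum (MvPolynomial n k)))
  have htgt : (f.target : Set (Spec (CommRingCat.of (MvPolynomial n k)))).Nonempty := f.dense_target.nonempty
  obtain ⟨z, hz⟩ := htgt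
  refine ⟨?_, ?_⟩
  · haveI : Nonempty f.target.toScheme := ⟨⟨z, hz⟩⟩
    haveI : IrreducibleSpace f.target.toScheme := f.target.ι.isOpenEmbedding.irreducibleSpace
    haveI : Nonempty f.source.toScheme := ⟨f.iso.inv ⟨z, hz⟩⟩
    haveI : IrreducibleSpace f.source.toScheme := f.iso.hom.isOpenEmbedding.irreducibleSpace
    haveI := AlgebraicGeometry.Opens.isDominant_ι f.dense_source
    exact ⟨by
      rw [← f.source.ι.denseRange.closure_range]
      rw [← Set.image_univ]
      exact ((IrreducibleSpace.isIrreducible_univ _).image f.source.ι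
        f.source.ι.continuous.continuousOn).closure.isPreirreducible⟩
  · obtain ⟨_, ⟨_, ⟨g, rfl⟩, rfl⟩, hzg, hgV⟩ :=
      PrimeSpectrum.isBasis_basic_opens.exists_subset_of_mem_open hz f.target.isOpen
    have hg0 : g ≠ 0 := fun h => by
      subst h
      rw [PrimeSpectrum.basicOpen_zero] at hzg
      exact hzg
    let L := Localization.Away g
    let l : Spec (CommRingCat.of L) ⟶ Spec (CommRingCat.of (MvPolynomial n k)) :=
      Spec.map (CommRingCat.ofHom (algebraMap (MvPolynomial n k) L))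
    haveI : IsOpenImmersion l := IsOpenImmersion.of_isLocalization g
    have hl : Set.range l ⊆ Set.range f.target.ι := by
      rw [Scheme.Opens.range_ι]
      exact (PrimeSpectrum.localization_away_comap_range L g).le.trans hgV
    let l' := IsOpenImmersion.lift f.target.ι l hl
    haveI : IsOpenImmersion l' := by
      haveI : IsOpenImmersion (l' ≫ f.target.ι) := by rw [IsOpenImmersion.lift_fac]; infer_instance
      exact IsOpenImmersion.of_comp l' f.target.ι
    haveI : LocallyOfFiniteType (Spec.map (CommRingCat.ofHom (algebraMap k L))) := by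
      have hcomp : (l' ≫ f.iso.inv ≫ f.source.ι) ≫ X.hom = Spec.map (CommRingCat.ofHom (algebraMap k L)) := by
        simp only [Category.assoc]
        rw [← hf, Iso.inv_hom_id_assoc, IsOpenImmersion.lift_fac_assoc, ← Spec.map_comp, ← CommRingCat.ofHom_comp,
          ← IsScalarTower.algebraMap_eq]
      rw [← hcomp]; infer_instance
    haveI : Algebra.FiniteType k L := RingHom.finiteType_algebraMap.1
      ((HasRingHomProperty.Spec_iff (P := @LocallyOfFiniteType)).1 ‹_›)
    haveI : IsDomain L := IsLocalization.isDomain_localization (powers_le_nonZeroDivisors_of_noZeroDivisors hg0)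
    have hind : AlgebraicIndependent k (fun i : n => (IsScalarTower.toAlgHom k (MvPolynomial n k) L) (MvPolynomial.X i)) :=
      (MvPolynomial.algebraicIndependent_X n k).map'
        (IsLocalization.injective L (powers_le_nonZeroDivisors_of_noZeroDivisors hg0))
    haveI : Finite n := Cardinal.mk_lt_aleph0_iff.1
      (lt_of_le_of_lt hind.cardinalMk_le_trdeg trdeg_lt_aleph0_of_finiteType)
    obtain ⟨r, ⟨σ⟩⟩ := Finite.exists_equiv_fin n
    let ρ := MvPolynomial.renameEquiv k σ
    refine ⟨r, Scheme.BirationalOver.trans (sY := sp) ⟨f, hf⟩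
      (KrullSch.Stab.birationalOver_of_iso (Scheme.Spec.mapIso ρ.symm.toRingEquiv.toCommRingCatIso.symm.op).symm ?_)⟩
    show Spec.map _ ≫ Spec.map _ = Spec.map _
    rw [← Spec.map_comp]
    exact congrArg Spec.map (CommRingCat.hom_ext (RingHom.ext fun c => by simp [ρ]))

/-- Over a dense open with a section, a torsor is a product. -/
theorem birationalOver_torsor {B W Y : Over (Spec (CommRingCat.of k))} [GrpObj B] [LocallyOfFiniteType B.hom]
    (b : AlgGrp.Action B W) (ψ : W ⟶ Y) (h : IsPullback b.act (snd B W) ψ ψ) [UniversallyOpen ψ.left]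
    (U : Y.left.Opens) (hU : Dense (U : Set Y.left)) (s₀ : (U : Scheme.{u}) ⟶ W.left) (hs : s₀ ≫ ψ.left = U.ι) :
    Scheme.BirationalOver W.hom (B ⊗ Y).hom := by
  let T : Over (Spec (CommRingCat.of k)) := Over.mk (U.ι ≫ Y.hom)
  let s : T ⟶ W := Over.homMk s₀ (by
    show s₀ ≫ W.hom = U.ι ≫ Y.hom
    rw [← Over.w ψ, ← Category.assoc, hs])
  let jU : T ⟶ Y := Over.homMk U.ι rfl
  have hjU : s ≫ ψ = jU := Over.OverMorphism.ext hs
  have hsq : IsPullback (snd B T) ((B ◁ s) ≫ b.act) (s ≫ ψ) ψ := by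
    have hw : ((B ◁ s) ≫ b.act) ≫ ψ = snd B T ≫ s ≫ ψ := by
      rw [Category.assoc, h.w, whiskerLeft_snd_assoc]
    refine ⟨⟨hw.symm⟩, ⟨PullbackCone.IsLimit.mk _
      (fun d => lift (h.lift d.snd (d.fst ≫ s) (by rw [Category.assoc, d.condition]) ≫ fst B W) d.fst)
      (fun d => lift_snd _ _) (fun d => ?_) (fun d m h₁ h₂ => ?_)⟩⟩
    · rw [lift_whiskerLeft_assoc]
      have e : lift (h.lift d.snd (d.fst ≫ s) (by rw [Category.assoc, d.condition]) ≫ fst B W) (d.fst ≫ s) =
          h.lift d.snd (d.fst ≫ s) (by rw [Category.assoc, d.condition]) :=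
        CartesianMonoidalCategory.hom_ext _ _ (by simp) (by simp)
      rw [e, IsPullback.lift_fst]
    · refine CartesianMonoidalCategory.hom_ext _ _ ?_ (by rw [h₁, lift_snd])
      rw [lift_fst]
      have e : m ≫ (B ◁ s) = h.lift d.snd (d.fst ≫ s) (by rw [Category.assoc, d.condition]) := h.hom_ext
        (by rw [IsPullback.lift_fst, ← h₂, Category.assoc])
        (by rw [IsPullback.lift_snd, Category.assoc, whiskerLeft_snd, ← h₁, Category.assoc])
      rw [← e, Category.assoc, whiskerLeft_fst]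
  haveI : IsOpenImmersion jU.left := inferInstanceAs (IsOpenImmersion U.ι)
  haveI : IsDominant jU.left := AlgebraicGeometry.Opens.isDominant_ι hU
  obtain ⟨h1, h2⟩ := whisker_dense (Z := B) jU
  rw [hjU] at hsq
  have hsq' := hsq.map (Over.forget _)
  haveI : IsOpenImmersion ((B ◁ s) ≫ b.act).left :=
    MorphismProperty.of_isPullback hsq' (inferInstance : IsOpenImmersion jU.left)
  haveI : IsDominant ((B ◁ s) ≫ b.act).left := ⟨by
    have hr : Set.range ((B ◁ s) ≫ b.act).left = ψ.left ⁻¹' Set.range jU.left :=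
      range_of_isPullback hsq'.flip
    show Dense (Set.range ((B ◁ s) ≫ b.act).left)
    rw [hr]
    exact jU.left.denseRange.preimage ψ.left.isOpenMap⟩
  exact (((B ◁ s) ≫ b.act).left.birationalOver W.hom (B ⊗ T).hom (Over.w ((B ◁ s) ≫ b.act))).symm.trans
    ((B ◁ jU).left.birationalOver (B ⊗ Y).hom (B ⊗ T).hom (Over.w (B ◁ jU)))

/-- Specialness in the form with Zariski local sections. -/
abbrev HasSections (B : Over (Spec (CommRingCat.of k))) [GrpObj B] : Prop :=
  ∀ (X' Y' : Over (Spec (CommRingCat.of k))) (a : AlgGrp.Action B X') (p : X' ⟶ Y'),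
      LocallyOfFiniteType X'.hom → QuasiCompact X'.hom → LocallyOfFiniteType Y'.hom → QuasiCompact Y'.hom →
      Flat p.left → Surjective p.left → IsPullback a.act.left (snd B X').left p.left p.left →
      ∀ y : ↥Y'.left, ∃ (W : Y'.left.Opens) (s : (W : Scheme.{u}) ⟶ X'.left), y ∈ W ∧ s ≫ p.left = W.ι

/-- The torsor of an orbit map. -/
theorem isPullback_of_isQuotient {G G₁ Q : Over (Spec (CommRingCat.of k))} [GrpObj G] [GrpObj G₁] (i : G ⟶ G₁)
    [IsMonHom i] (a : AlgGrp.Action G₁ Q) (o : 𝟙_ _ ⟶ Q) (h : AGF.IsQuotient i Q a o) :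
    IsPullback ((AlgGrp.Action.invRight G₁).restrict i).act (snd G G₁) (a.orbitMap o) (a.orbitMap o) := by
  have hsq := h.2.2.2
  let e : G ⊗ G₁ ≅ G₁ ⊗ G :=
    ⟨lift (snd G G₁) (fst G G₁)⁻¹, lift (snd G₁ G)⁻¹ (fst G₁ G),
      CartesianMonoidalCategory.hom_ext _ _ (by simp [GrpObj.comp_inv]) (by simp),
      CartesianMonoidalCategory.hom_ext _ _ (by simp) (by simp [GrpObj.comp_inv])⟩
  refine hsq.flip.of_iso e.symm (Iso.refl _) (Iso.refl _) (Iso.refl _) ?_ ?_ (by simp) (by simp)
  · change ((G₁ ◁ i) ≫ μ[G₁]) ≫ 𝟙 _ = lift (snd G₁ G)⁻¹ (fst G₁ G) ≫ _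
    rw [Category.comp_id, AlgGrp.Action.lift_restrict_act, AlgGrp.Action.lift_invRight_act, GrpObj.inv_comp,
      _root_.inv_inv, Hom.mul_def]
    congr 1
  · change fst G₁ G ≫ 𝟙 _ = lift (snd G₁ G)⁻¹ (fst G₁ G) ≫ _
    rw [Category.comp_id, lift_snd]

/-- The twisted product as a torsor over the base of either factor. -/
theorem exists_twisted {G G₁ G₂ Q₁ : Over (Spec (CommRingCat.of k))} [GrpObj G] [GrpObj G₁] [GrpObj G₂]
    [IsAffine G₁.left] [IsAffine G₂.left] [LocallyOfFiniteType G₁.hom] [LocallyOfFiniteType G₂.hom]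
    [PreirreducibleSpace G₁.left] (i₁ : G ⟶ G₁) (i₂ : G ⟶ G₂) [IsMonHom i₁] [IsMonHom i₂] (hsp : HasSections G₂)
    (a₁ : AlgGrp.Action G₁ Q₁) (o₁ : 𝟙_ _ ⟶ Q₁) (hQ : AGF.IsQuotient i₁ Q₁ a₁ o₁) :
    ∃ (W : Over (Spec (CommRingCat.of k))) (π : G₁ ⊗ G₂ ⟶ W),
      Flat π.left ∧ Surjective π.left ∧ QuasiCompact π.left ∧
      IsPullback (((AlgGrp.Action.invRight G₁).restrict i₁).prod ((SpecialExt.regular G₂).restrict i₂)).act
        (snd G (G₁ ⊗ G₂)) π π ∧
      Scheme.BirationalOver W.hom (G₂ ⊗ Q₁).hom := by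
  obtain ⟨hQl, hf, hs, -⟩ := id hQ
  haveI := hQl; haveI := hf; haveI := hs
  let f := a₁.orbitMap o₁
  haveI : IsAffineHom G₁.hom := isAffineHom_of_isAffine _
  haveI : IsAffineHom G₂.hom := isAffineHom_of_isAffine _
  haveI : IsLocallyNoetherian Q₁.left := LocallyOfFiniteType.isLocallyNoetherian Q₁.hom
  haveI : QuasiSeparated Q₁.hom := by
    haveI : QuasiSeparatedSpace Q₁.left := inferInstance
    exact QuasiSeparated.of_quasiSeparatedSpace _
  haveI : QuasiCompact f.left := by
    haveI : QuasiCompact (f.left ≫ Q₁.hom) := by rw [Over.w f]; infer_instance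
    exact QuasiCompact.of_comp f.left Q₁.hom
  have hsqO := isPullback_of_isQuotient i₁ a₁ o₁ hQ
  obtain ⟨W, π, ψ, heq, hpb⟩ := Assoc.exists_bundle ((AlgGrp.Action.invRight G₁).restrict i₁)
    ((SpecialExt.regular G₂).restrict i₂) f (hsqO.map (Over.forget _))
  have hpb' : IsPullback (fst G₁ G₂) π f ψ :=
    IsPullback.of_map (Over.forget _) (Over.OverMorphism.ext hpb.w) hpb
  have hcart := Assoc.bundle_isPullback ((AlgGrp.Action.invRight G₁).restrict i₁)
    ((SpecialExt.regular G₂).restrict i₂) f π ψ hsqO heq hpb'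
  haveI : Flat π.left := MorphismProperty.of_isPullback hpb (inferInstance : Flat f.left)
  haveI : Surjective π.left := MorphismProperty.of_isPullback hpb (inferInstance : Surjective f.left)
  haveI : QuasiCompact π.left := MorphismProperty.of_isPullback hpb (inferInstance : QuasiCompact f.left)
  obtain ⟨bW, hbW⟩ := SpecialExt.exists_action ((AlgGrp.Action.invRight G₁).restrict i₁) i₂ f π ψ hcart hpb'
  have hQd : (@Surjective ⊓ @Flat ⊓ @QuasiCompact : MorphismProperty Scheme.{u}) f.left :=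
    ⟨⟨‹_›, ‹_›⟩, ‹_›⟩
  have hfl : Flat (fst G₁ G₂).left := by
    change Flat (pullback.fst G₁.hom G₂.hom); infer_instance
  have hlt : LocallyOfFiniteType (fst G₁ G₂).left := by
    change LocallyOfFiniteType (pullback.fst G₁.hom G₂.hom); infer_instance
  haveI : Flat ψ.left := MorphismProperty.of_isPullback_of_descendsAlong (P := @Flat) hpb hQd hfl
  haveI : LocallyOfFiniteType ψ.left :=
    MorphismProperty.of_isPullback_of_descendsAlong (P := @LocallyOfFiniteType) hpb hQd hlt
  haveI : LocallyOfFiniteType W.hom := by rw [← Over.w ψ]; infer_instance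
  haveI : CompactSpace Q₁.left := ⟨by
    rw [← f.left.surjective.range_eq]
    exact isCompact_range f.left.continuous⟩
  haveI : QuasiCompact Q₁.hom := (HasAffineProperty.iff_of_isAffine (P := @QuasiCompact)).mpr ‹_›
  haveI : IsAffine (G₁ ⊗ G₂).left := inferInstanceAs (IsAffine (pullback G₁.hom G₂.hom))
  haveI : CompactSpace W.left := ⟨by
    rw [← π.left.surjective.range_eq]
    exact isCompact_range π.left.continuous⟩
  haveI : QuasiCompact W.hom := (HasAffineProperty.iff_of_isAffine (P := @QuasiCompact)).mpr ‹_›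
  have hψsec : SpecialExt.sec π ≫ ψ = f := SpecialExt.sec_comp f π ψ hpb'
  haveI : Surjective ψ.left := by
    haveI : Surjective ((SpecialExt.sec π).left ≫ ψ.left) := by rw [← Over.comp_left, hψsec]; infer_instance
    exact Surjective.of_comp (SpecialExt.sec π).left ψ.left
  haveI : Nonempty G₁.left := ⟨η[G₁].left (IsLocalRing.closedPoint k)⟩
  obtain ⟨U, s, hyU, hU⟩ := hsp W Q₁ bW ψ inferInstance inferInstance inferInstance inferInstance inferInstance
    inferInstance (hbW.map (Over.forget _)) (f.left (Classical.arbitrary _))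
  haveI : PreirreducibleSpace Q₁.left := ⟨by
    rw [← f.left.surjective.range_eq, ← Set.image_univ]
    exact (PreirreducibleSpace.isPreirreducible_univ).image f.left f.left.continuous.continuousOn⟩
  refine ⟨W, π, inferInstance, inferInstance, inferInstance, hcart, ?_⟩
  exact birationalOver_torsor bW ψ hbW U (U.2.dense ⟨_, hyU⟩) s hU

/-- **Quotients of rational special groups by a common subgroup are stably birational.** -/
theorem main {G G₁ G₂ Q₁ Q₂ : Over (Spec (CommRingCat.of k))} [GrpObj G] [GrpObj G₁] [GrpObj G₂]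
    [IsAffine G₁.left] [IsAffine G₂.left] [LocallyOfFiniteType G₁.hom] [LocallyOfFiniteType G₂.hom]
    (i₁ : G ⟶ G₁) (i₂ : G ⟶ G₂) [IsMonHom i₁] [IsMonHom i₂] (hsp₁ : HasSections G₁) (hsp₂ : HasSections G₂)
    [Scheme.IsRationalOver G₁.hom] [Scheme.IsRationalOver G₂.hom]
    (a₁ : AlgGrp.Action G₁ Q₁) (a₂ : AlgGrp.Action G₂ Q₂) (o₁ : 𝟙_ _ ⟶ Q₁) (o₂ : 𝟙_ _ ⟶ Q₂)
    (hQ₁ : AGF.IsQuotient i₁ Q₁ a₁ o₁) (hQ₂ : AGF.IsQuotient i₂ Q₂ a₂ o₂) :
    ∃ r s : ℕ, Scheme.BirationalOver
      (pullback.fst Q₁.hom (Spec.map (CommRingCat.ofHom (algebraMap k (MvPolynomial (Fin r) k)))) ≫ Q₁.hom)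
      (pullback.fst Q₂.hom (Spec.map (CommRingCat.ofHom (algebraMap k (MvPolynomial (Fin s) k)))) ≫ Q₂.hom) := by
  haveI : Nonempty G₁.left := ⟨η[G₁].left (IsLocalRing.closedPoint k)⟩
  haveI : Nonempty G₂.left := ⟨η[G₂].left (IsLocalRing.closedPoint k)⟩
  obtain ⟨hirr₁, n₁, hn₁⟩ := rational_props (X := G₁)
  obtain ⟨hirr₂, n₂, hn₂⟩ := rational_props (X := G₂)
  haveI := hirr₁; haveI := hirr₂
  haveI : LocallyOfFiniteType Q₁.hom := hQ₁.1
  haveI : LocallyOfFiniteType Q₂.hom := hQ₂.1
  obtain ⟨W₁, π₁, hf1, hs1, hq1, hc1, hb1⟩ := exists_twisted i₁ i₂ hsp₂ a₁ o₁ hQ₁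
  obtain ⟨W₂, π₂, hf2, hs2, hq2, hc2, hb2⟩ := exists_twisted i₂ i₁ hsp₁ a₂ o₂ hQ₂
  haveI := hf1; haveI := hs1; haveI := hq1; haveI := hf2; haveI := hs2; haveI := hq2
  let e : G₁ ⊗ G₂ ≅ G₂ ⊗ G₁ :=
    ⟨lift (snd G₁ G₂)⁻¹ (fst G₁ G₂)⁻¹, lift (snd G₂ G₁)⁻¹ (fst G₂ G₁)⁻¹,
      CartesianMonoidalCategory.hom_ext _ _ (by simp [GrpObj.comp_inv]) (by simp [GrpObj.comp_inv]),
      CartesianMonoidalCategory.hom_ext _ _ (by simp [GrpObj.comp_inv]) (by simp [GrpObj.comp_inv])⟩
  haveI : IsIso e.hom := Iso.isIso_hom e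
  have he : (((AlgGrp.Action.invRight G₁).restrict i₁).prod ((SpecialExt.regular G₂).restrict i₂)).act ≫ e.hom =
      (G ◁ e.hom) ≫ (((AlgGrp.Action.invRight G₂).restrict i₂).prod ((SpecialExt.regular G₁).restrict i₁)).act := by
    apply AlgGrp.Action.hom_ext_lift₂
    intro T g z
    rw [← lift_comp_fst_snd z]
    simp only [e, lift_whiskerLeft_assoc, AlgGrp.Action.lift_prod_act_assoc, AlgGrp.Action.lift_prod_act,
      comp_lift, GrpObj.comp_inv, lift_fst, lift_snd, AlgGrp.Action.lift_restrict_act,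
      AlgGrp.Action.lift_invRight_act, SpecialExt.regular, ← Hom.mul_def, _root_.mul_inv_rev, _root_.inv_inv]
  have hc2' := hc2.of_iso (whiskerLeftIso G e).symm e.symm e.symm (Iso.refl W₂)
    (by
      change (_ : G ⊗ (G₂ ⊗ G₁) ⟶ G₂ ⊗ G₁) ≫ e.inv = (G ◁ e.inv) ≫ _
      rw [← cancel_mono e.hom, Category.assoc, Category.assoc, e.inv_hom_id, Category.comp_id, he,
        whiskerLeft_inv_hom_assoc])
    (by change snd G (G₂ ⊗ G₁) ≫ e.inv = (G ◁ e.inv) ≫ snd G (G₁ ⊗ G₂); rw [whiskerLeft_snd]) (f' := e.hom ≫ π₂) (g' := e.hom ≫ π₂) (by simp) (by simp)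
  haveI : IsIso e.hom.left := Iso.isIso_hom ((Over.forget _).mapIso e)
  haveI : Flat (e.hom ≫ π₂).left := by rw [Over.comp_left]; infer_instance
  haveI : Surjective (e.hom ≫ π₂).left := by rw [Over.comp_left]; infer_instance
  haveI : QuasiCompact (e.hom ≫ π₂).left := by rw [Over.comp_left]; infer_instance
  obtain ⟨u, hu⟩ := SpecialExt.exists_desc π₁ (e.hom ≫ π₂) fun T z z' h => by
    obtain ⟨l, h1, h2⟩ := hc1.exists_lift z z' h
    rw [← h1, ← h2, Category.assoc, hc2'.w, Category.assoc]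
  obtain ⟨v, hv⟩ := SpecialExt.exists_desc (e.hom ≫ π₂) π₁ fun T z z' h => by
    obtain ⟨l, h1, h2⟩ := hc2'.exists_lift z z' h
    rw [← h1, ← h2, Category.assoc, hc1.w, Category.assoc]
  let E : W₁ ≅ W₂ := ⟨u, v,
    SpecialExt.cancel_cover π₁ (by rw [reassoc_of% hu, Category.comp_id]; exact (Category.assoc _ _ _).symm.trans hv),
    SpecialExt.cancel_cover (e.hom ≫ π₂) (by rw [← Category.assoc, hv, hu, Category.comp_id])⟩
  have hW : Scheme.BirationalOver W₁.hom W₂.hom :=
    KrullSch.Stab.birationalOver_of_iso ((Over.forget _).mapIso E) (Over.w E.hom)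
  have hswap : ∀ A B : Over (Spec (CommRingCat.of k)), Scheme.BirationalOver (A ⊗ B).hom (B ⊗ A).hom := fun A B =>
    KrullSch.Stab.birationalOver_of_iso ((Over.forget _).mapIso (β_ A B)) (Over.w (β_ A B).hom)
  refine ⟨n₂, n₁, ?_⟩
  exact (birationalOver_prod (Z := Q₁)
      (Y := Over.mk (Spec.map (CommRingCat.ofHom (algebraMap k (MvPolynomial (Fin n₂) k))))) hn₂).symm.trans
    (((hswap Q₁ G₂).trans hb1.symm).trans (hW.trans (hb2.trans ((hswap G₁ Q₂).trans (birationalOver_prod (Z := Q₂)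
      (Y := Over.mk (Spec.map (CommRingCat.ofHom (algebraMap k (MvPolynomial (Fin n₁) k))))) hn₁)))))

end Groth.Agent.StableBirat
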